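import Cfsg.Agent.Lib.Mult.Suz.CvT0
import Cfsg.Agent.Lib.Mult.Cov
import Cfsg.Agent.Lib.Grp.Suz.Defs

set_option autoImplicit false
set_option maxRecDepth 100000
set_option Elab.async false

namespace Cfsg.Agent.Mult.Suz

open Cfsg.Agent.CG Cfsg.Agent.CG.Suz

noncomputable def cvP : List (List ℕ × List ℕ) := [([49,50,51,48,44,51,50,47,49,46,50,48,45,47,44,49,47,46,48],
  [51,47,44,49,51,47,45,43,49,44,46,47,46,48]),
  ([45,51,50,49,46,51,43,46,43,50,48,47,46,45,48,46,44,43],
  [46,50,44,43,51,48,43,46,50,48,45,47,49,48,47,46,45,48,47,46,45])]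
noncomputable def cv0s0 : List (ℕ × ℕ) := [(32768, (Nat.shiftLeft (Nat.sub (Nat.pow 2 32760) 1) 0))]
noncomputable def cv0s43 : List (ℕ × ℕ) := [(16384, copies 32768 2 cv0m0),
  (8192, copies 32768 2 cv0m1),
  (4096, copies 32768 2 cv0m2),
  (2048, copies 32768 2 cv0m3),
  (1024, copies 32768 2 cv0m4),
  (512, copies 32768 2 cv0m5),
  (256, copies 32768 2 cv0m6),
  (128, copies 32768 2 cv0m7),
  (64, copies 32768 2 cv0m8),
  (32, copies 32768 2 cv0m9),
  (16, copies 32768 2 cv0m10),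
  (8, copies 32768 2 cv0m11),
  (4, copies 32768 2 cv0m12),
  (2, copies 32768 2 cv0m13),
  (1, copies 32768 2 cv0m14),
  (2, copies 32768 2 cv0m15),
  (4, copies 32768 2 cv0m16),
  (8, copies 32768 2 cv0m17),
  (16, copies 32768 2 cv0m18),
  (32, copies 32768 2 cv0m19),
  (64, copies 32768 2 cv0m20),
  (128, copies 32768 2 cv0m21),
  (256, copies 32768 2 cv0m22),
  (512, copies 32768 2 cv0m23),
  (1024, copies 32768 2 cv0m24),
  (2048, copies 32768 2 cv0m25),
  (4096, copies 32768 2 cv0m26),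
  (8192, copies 32768 2 cv0m27),
  (16384, copies 32768 2 cv0m28),
  (32768, cv0m29)]
noncomputable def cv0s44 : List (ℕ × ℕ) := [(16384, copies 32768 2 cv0m30),
  (8192, copies 32768 2 cv0m31),
  (4096, copies 32768 2 cv0m32),
  (2048, copies 32768 2 cv0m33),
  (1024, copies 32768 2 cv0m34),
  (512, copies 32768 2 cv0m35),
  (256, copies 32768 2 cv0m36),
  (128, copies 32768 2 cv0m37),
  (64, copies 32768 2 cv0m38),
  (32, copies 32768 2 cv0m39),
  (16, copies 32768 2 cv0m40),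
  (8, copies 32768 2 cv0m41),
  (4, copies 32768 2 cv0m42),
  (2, copies 32768 2 cv0m43),
  (1, copies 32768 2 cv0m44),
  (2, copies 32768 2 cv0m45),
  (4, copies 32768 2 cv0m46),
  (8, copies 32768 2 cv0m47),
  (16, copies 32768 2 cv0m48),
  (32, copies 32768 2 cv0m49),
  (64, copies 32768 2 cv0m50),
  (128, copies 32768 2 cv0m51),
  (256, copies 32768 2 cv0m52),
  (512, copies 32768 2 cv0m53),
  (1024, copies 32768 2 cv0m54),
  (2048, copies 32768 2 cv0m55),
  (4096, copies 32768 2 cv0m56),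
  (8192, copies 32768 2 cv0m57),
  (16384, copies 32768 2 cv0m58),
  (32768, cv0m59)]
noncomputable def cv0s45 : List (ℕ × ℕ) := [(16384, copies 32768 2 cv0m60),
  (8192, copies 32768 2 cv0m61),
  (4096, copies 32768 2 cv0m62),
  (2048, copies 32768 2 cv0m63),
  (1024, copies 32768 2 cv0m64),
  (512, copies 32768 2 cv0m65),
  (256, copies 32768 2 cv0m66),
  (128, copies 32768 2 cv0m67),
  (64, copies 32768 2 cv0m68),
  (32, copies 32768 2 cv0m69),
  (16, copies 32768 2 cv0m70),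
  (8, copies 32768 2 cv0m71),
  (4, copies 32768 2 cv0m72),
  (2, copies 32768 2 cv0m73),
  (1, copies 32768 2 cv0m74),
  (2, copies 32768 2 cv0m75),
  (4, copies 32768 2 cv0m76),
  (8, copies 32768 2 cv0m77),
  (16, copies 32768 2 cv0m78),
  (32, copies 32768 2 cv0m79),
  (64, copies 32768 2 cv0m80),
  (128, copies 32768 2 cv0m81),
  (256, copies 32768 2 cv0m82),
  (512, copies 32768 2 cv0m83),
  (1024, copies 32768 2 cv0m84),
  (2048, copies 32768 2 cv0m85),
  (4096, copies 32768 2 cv0m86),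
  (8192, copies 32768 2 cv0m87),
  (16384, copies 32768 2 cv0m88),
  (32768, cv0m89)]
noncomputable def cv0s46 : List (ℕ × ℕ) := [(16384, copies 32768 2 cv0m90),
  (8192, copies 32768 2 cv0m91),
  (4096, copies 32768 2 cv0m92),
  (2048, copies 32768 2 cv0m93),
  (1024, copies 32768 2 cv0m94),
  (512, copies 32768 2 cv0m95),
  (256, copies 32768 2 cv0m96),
  (128, copies 32768 2 cv0m97),
  (64, copies 32768 2 cv0m98),
  (32, copies 32768 2 cv0m99),
  (16, copies 32768 2 cv0m100),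
  (8, copies 32768 2 cv0m101),
  (4, copies 32768 2 cv0m102),
  (2, copies 32768 2 cv0m103),
  (1, copies 32768 2 cv0m104),
  (2, copies 32768 2 cv0m105),
  (4, copies 32768 2 cv0m106),
  (8, copies 32768 2 cv0m107),
  (16, copies 32768 2 cv0m108),
  (32, copies 32768 2 cv0m109),
  (64, copies 32768 2 cv0m110),
  (128, copies 32768 2 cv0m111),
  (256, copies 32768 2 cv0m112),
  (512, copies 32768 2 cv0m113),
  (1024, copies 32768 2 cv0m114),
  (2048, copies 32768 2 cv0m115),
  (4096, copies 32768 2 cv0m116),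
  (8192, copies 32768 2 cv0m117),
  (16384, copies 32768 2 cv0m118),
  (32768, cv0m119)]
noncomputable def cv0s47 : List (ℕ × ℕ) := [(16384, copies 32768 2 cv0m120),
  (8192, copies 32768 2 cv0m121),
  (4096, copies 32768 2 cv0m122),
  (2048, copies 32768 2 cv0m123),
  (1024, copies 32768 2 cv0m124),
  (512, copies 32768 2 cv0m125),
  (256, copies 32768 2 cv0m126),
  (128, copies 32768 2 cv0m127),
  (64, copies 32768 2 cv0m128),
  (32, copies 32768 2 cv0m129),
  (16, copies 32768 2 cv0m130),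
  (8, copies 32768 2 cv0m131),
  (4, copies 32768 2 cv0m132),
  (2, copies 32768 2 cv0m133),
  (1, copies 32768 2 cv0m134),
  (2, copies 32768 2 cv0m135),
  (4, copies 32768 2 cv0m136),
  (8, copies 32768 2 cv0m137),
  (16, copies 32768 2 cv0m138),
  (32, copies 32768 2 cv0m139),
  (64, copies 32768 2 cv0m140),
  (128, copies 32768 2 cv0m141),
  (256, copies 32768 2 cv0m142),
  (512, copies 32768 2 cv0m143),
  (1024, copies 32768 2 cv0m144),
  (2048, copies 32768 2 cv0m145),
  (4096, copies 32768 2 cv0m146),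
  (8192, copies 32768 2 cv0m147),
  (16384, copies 32768 2 cv0m148),
  (32768, cv0m149)]
noncomputable def cv0s48 : List (ℕ × ℕ) := [(16384, copies 32768 2 cv0m150),
  (8192, copies 32768 2 cv0m151),
  (4096, copies 32768 2 cv0m152),
  (2048, copies 32768 2 cv0m153),
  (1024, copies 32768 2 cv0m154),
  (512, copies 32768 2 cv0m155),
  (256, copies 32768 2 cv0m156),
  (128, copies 32768 2 cv0m157),
  (64, copies 32768 2 cv0m158),
  (32, copies 32768 2 cv0m159),
  (16, copies 32768 2 cv0m160),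
  (8, copies 32768 2 cv0m161),
  (4, copies 32768 2 cv0m162),
  (2, copies 32768 2 cv0m163),
  (1, copies 32768 2 cv0m164),
  (2, copies 32768 2 cv0m165),
  (4, copies 32768 2 cv0m166),
  (8, copies 32768 2 cv0m167),
  (16, copies 32768 2 cv0m168),
  (32, copies 32768 2 cv0m169),
  (64, copies 32768 2 cv0m170),
  (128, copies 32768 2 cv0m171),
  (256, copies 32768 2 cv0m172),
  (512, copies 32768 2 cv0m173),
  (1024, copies 32768 2 cv0m174),
  (2048, copies 32768 2 cv0m175),
  (4096, copies 32768 2 cv0m176),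
  (8192, copies 32768 2 cv0m177),
  (16384, copies 32768 2 cv0m178),
  (32768, cv0m179)]
noncomputable def cv0s49 : List (ℕ × ℕ) := [(16384, copies 32768 2 cv0m180),
  (8192, copies 32768 2 cv0m181),
  (4096, copies 32768 2 cv0m182),
  (2048, copies 32768 2 cv0m183),
  (1024, copies 32768 2 cv0m184),
  (512, copies 32768 2 cv0m185),
  (256, copies 32768 2 cv0m186),
  (128, copies 32768 2 cv0m187),
  (64, copies 32768 2 cv0m188),
  (32, copies 32768 2 cv0m189),
  (16, copies 32768 2 cv0m190),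
  (8, copies 32768 2 cv0m191),
  (4, copies 32768 2 cv0m192),
  (2, copies 32768 2 cv0m193),
  (1, copies 32768 2 cv0m194),
  (2, copies 32768 2 cv0m195),
  (4, copies 32768 2 cv0m196),
  (8, copies 32768 2 cv0m197),
  (16, copies 32768 2 cv0m198),
  (32, copies 32768 2 cv0m199),
  (64, copies 32768 2 cv0m200),
  (128, copies 32768 2 cv0m201),
  (256, copies 32768 2 cv0m202),
  (512, copies 32768 2 cv0m203),
  (1024, copies 32768 2 cv0m204),
  (2048, copies 32768 2 cv0m205),
  (4096, copies 32768 2 cv0m206),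
  (8192, copies 32768 2 cv0m207),
  (16384, copies 32768 2 cv0m208),
  (32768, cv0m209)]
noncomputable def cv0s50 : List (ℕ × ℕ) := [(16384, copies 32768 2 cv0m210),
  (8192, copies 32768 2 cv0m211),
  (4096, copies 32768 2 cv0m212),
  (2048, copies 32768 2 cv0m213),
  (1024, copies 32768 2 cv0m214),
  (512, copies 32768 2 cv0m215),
  (256, copies 32768 2 cv0m216),
  (128, copies 32768 2 cv0m217),
  (64, copies 32768 2 cv0m218),
  (32, copies 32768 2 cv0m219),
  (16, copies 32768 2 cv0m220),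
  (8, copies 32768 2 cv0m221),
  (4, copies 32768 2 cv0m222),
  (2, copies 32768 2 cv0m223),
  (1, copies 32768 2 cv0m224),
  (2, copies 32768 2 cv0m225),
  (4, copies 32768 2 cv0m226),
  (8, copies 32768 2 cv0m227),
  (16, copies 32768 2 cv0m228),
  (32, copies 32768 2 cv0m229),
  (64, copies 32768 2 cv0m230),
  (128, copies 32768 2 cv0m231),
  (256, copies 32768 2 cv0m232),
  (512, copies 32768 2 cv0m233),
  (1024, copies 32768 2 cv0m234),
  (2048, copies 32768 2 cv0m235),
  (4096, copies 32768 2 cv0m236),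
  (8192, copies 32768 2 cv0m237),
  (16384, copies 32768 2 cv0m238),
  (32768, cv0m239)]
noncomputable def cv0s51 : List (ℕ × ℕ) := [(16384, copies 32768 2 cv0m240),
  (8192, copies 32768 2 cv0m241),
  (4096, copies 32768 2 cv0m242),
  (2048, copies 32768 2 cv0m243),
  (1024, copies 32768 2 cv0m244),
  (512, copies 32768 2 cv0m245),
  (256, copies 32768 2 cv0m246),
  (128, copies 32768 2 cv0m247),
  (64, copies 32768 2 cv0m248),
  (32, copies 32768 2 cv0m249),
  (16, copies 32768 2 cv0m250),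
  (8, copies 32768 2 cv0m251),
  (4, copies 32768 2 cv0m252),
  (2, copies 32768 2 cv0m253),
  (1, copies 32768 2 cv0m254),
  (2, copies 32768 2 cv0m255),
  (4, copies 32768 2 cv0m256),
  (8, copies 32768 2 cv0m257),
  (16, copies 32768 2 cv0m258),
  (32, copies 32768 2 cv0m259),
  (64, copies 32768 2 cv0m260),
  (128, copies 32768 2 cv0m261),
  (256, copies 32768 2 cv0m262),
  (512, copies 32768 2 cv0m263),
  (1024, copies 32768 2 cv0m264),
  (2048, copies 32768 2 cv0m265),
  (4096, copies 32768 2 cv0m266),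
  (8192, copies 32768 2 cv0m267),
  (16384, copies 32768 2 cv0m268),
  (32768, cv0m269)]
noncomputable def cv0 : Mono := ⟨65536, 16, 2, 0, [cv0s0,[],[],[],[],[],[],[],[],[],[],[],[],[],[],[],[],[],[],[],[],[],[],[],[],[],[],[],[],[],[],[],[],[],[],[],[],[],[],[],[],[],[],cv0s43,cv0s44,cv0s45,cv0s46,cv0s47,cv0s48,cv0s49,cv0s50,cv0s51], [0,0,0,0,1,0,0,0,1,0,0,0,1,1,0,0,1,0,0,1,0,0,1,0,1,0,0,0,0,0,0,0,1,1,0,0,0,0,1,0,1,0,1,1,0,1,0,0,0,0,1,0,0,1,1,0,1,1,1,0,0]⟩
noncomputable def cv1s0 : List (ℕ × ℕ) := [(2048, (Nat.shiftLeft (Nat.sub (Nat.pow 2 1782) 1) 0)),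
  (2048, (Nat.shiftLeft (Nat.sub (Nat.pow 2 1782) 1) 2048))]
noncomputable def cv1s43 : List (ℕ × ℕ) := [(1024, copies 2048 3 cv1m0),
  (512, copies 2048 3 cv1m1),
  (256, copies 2048 3 cv1m2),
  (128, copies 2048 3 cv1m3),
  (64, copies 2048 3 cv1m4),
  (32, copies 2048 3 cv1m5),
  (16, copies 2048 3 cv1m6),
  (8, copies 2048 3 cv1m7),
  (4, copies 2048 3 cv1m8),
  (2, copies 2048 3 cv1m9),
  (1, copies 2048 3 cv1m10),
  (2, copies 2048 3 cv1m11),
  (4, copies 2048 3 cv1m12),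
  (8, copies 2048 3 cv1m13),
  (16, copies 2048 3 cv1m14),
  (32, copies 2048 3 cv1m15),
  (64, copies 2048 3 cv1m16),
  (128, copies 2048 3 cv1m17),
  (256, copies 2048 3 cv1m18),
  (512, copies 2048 3 cv1m19),
  (1024, copies 2048 3 cv1m20),
  (2048, cv1m23),
  (2048, cv1m22),
  (2048, cv1m21)]
noncomputable def cv1s44 : List (ℕ × ℕ) := [(1024, copies 2048 3 cv1m24),
  (512, copies 2048 3 cv1m25),
  (256, copies 2048 3 cv1m26),
  (128, copies 2048 3 cv1m27),
  (64, copies 2048 3 cv1m28),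
  (32, copies 2048 3 cv1m29),
  (16, copies 2048 3 cv1m30),
  (8, copies 2048 3 cv1m31),
  (4, copies 2048 3 cv1m32),
  (2, copies 2048 3 cv1m33),
  (1, copies 2048 3 cv1m34),
  (2, copies 2048 3 cv1m35),
  (4, copies 2048 3 cv1m36),
  (8, copies 2048 3 cv1m37),
  (16, copies 2048 3 cv1m38),
  (32, copies 2048 3 cv1m39),
  (64, copies 2048 3 cv1m40),
  (128, copies 2048 3 cv1m41),
  (256, copies 2048 3 cv1m42),
  (512, copies 2048 3 cv1m43),
  (1024, copies 2048 3 cv1m44),
  (2048, cv1m47),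
  (2048, cv1m46),
  (2048, cv1m45)]
noncomputable def cv1s45 : List (ℕ × ℕ) := [(1024, copies 2048 3 cv1m48),
  (512, copies 2048 3 cv1m49),
  (256, copies 2048 3 cv1m50),
  (128, copies 2048 3 cv1m51),
  (64, copies 2048 3 cv1m52),
  (32, copies 2048 3 cv1m53),
  (16, copies 2048 3 cv1m54),
  (8, copies 2048 3 cv1m55),
  (4, copies 2048 3 cv1m56),
  (2, copies 2048 3 cv1m57),
  (1, copies 2048 3 cv1m58),
  (2, copies 2048 3 cv1m59),
  (4, copies 2048 3 cv1m60),
  (8, copies 2048 3 cv1m61),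
  (16, copies 2048 3 cv1m62),
  (32, copies 2048 3 cv1m63),
  (64, copies 2048 3 cv1m64),
  (128, copies 2048 3 cv1m65),
  (256, copies 2048 3 cv1m66),
  (512, copies 2048 3 cv1m67),
  (1024, copies 2048 3 cv1m68),
  (2048, cv1m71),
  (2048, cv1m70),
  (2048, cv1m69)]
noncomputable def cv1s46 : List (ℕ × ℕ) := [(1024, copies 2048 3 cv1m72),
  (512, copies 2048 3 cv1m73),
  (256, copies 2048 3 cv1m74),
  (128, copies 2048 3 cv1m75),
  (64, copies 2048 3 cv1m76),
  (32, copies 2048 3 cv1m77),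
  (16, copies 2048 3 cv1m78),
  (8, copies 2048 3 cv1m79),
  (4, copies 2048 3 cv1m80),
  (2, copies 2048 3 cv1m81),
  (1, copies 2048 3 cv1m82),
  (2, copies 2048 3 cv1m83),
  (4, copies 2048 3 cv1m84),
  (8, copies 2048 3 cv1m85),
  (16, copies 2048 3 cv1m86),
  (32, copies 2048 3 cv1m87),
  (64, copies 2048 3 cv1m88),
  (128, copies 2048 3 cv1m89),
  (256, copies 2048 3 cv1m90),
  (512, copies 2048 3 cv1m91),
  (1024, copies 2048 3 cv1m92),
  (2048, cv1m95),
  (2048, cv1m94),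
  (2048, cv1m93)]
noncomputable def cv1s47 : List (ℕ × ℕ) := [(1024, copies 2048 3 cv1m96),
  (512, copies 2048 3 cv1m97),
  (256, copies 2048 3 cv1m98),
  (128, copies 2048 3 cv1m99),
  (64, copies 2048 3 cv1m100),
  (32, copies 2048 3 cv1m101),
  (16, copies 2048 3 cv1m102),
  (8, copies 2048 3 cv1m103),
  (4, copies 2048 3 cv1m104),
  (2, copies 2048 3 cv1m105),
  (1, copies 2048 3 cv1m106),
  (2, copies 2048 3 cv1m107),
  (4, copies 2048 3 cv1m108),
  (8, copies 2048 3 cv1m109),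
  (16, copies 2048 3 cv1m110),
  (32, copies 2048 3 cv1m111),
  (64, copies 2048 3 cv1m112),
  (128, copies 2048 3 cv1m113),
  (256, copies 2048 3 cv1m114),
  (512, copies 2048 3 cv1m115),
  (1024, copies 2048 3 cv1m116),
  (2048, cv1m119),
  (2048, cv1m118),
  (2048, cv1m117)]
noncomputable def cv1s48 : List (ℕ × ℕ) := [(1024, copies 2048 3 cv1m120),
  (512, copies 2048 3 cv1m121),
  (256, copies 2048 3 cv1m122),
  (128, copies 2048 3 cv1m123),
  (64, copies 2048 3 cv1m124),
  (32, copies 2048 3 cv1m125),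
  (16, copies 2048 3 cv1m126),
  (8, copies 2048 3 cv1m127),
  (4, copies 2048 3 cv1m128),
  (2, copies 2048 3 cv1m129),
  (1, copies 2048 3 cv1m130),
  (2, copies 2048 3 cv1m131),
  (4, copies 2048 3 cv1m132),
  (8, copies 2048 3 cv1m133),
  (16, copies 2048 3 cv1m134),
  (32, copies 2048 3 cv1m135),
  (64, copies 2048 3 cv1m136),
  (128, copies 2048 3 cv1m137),
  (256, copies 2048 3 cv1m138),
  (512, copies 2048 3 cv1m139),
  (1024, copies 2048 3 cv1m140),
  (2048, cv1m143),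
  (2048, cv1m142),
  (2048, cv1m141)]
noncomputable def cv1s49 : List (ℕ × ℕ) := [(1024, copies 2048 3 cv1m144),
  (512, copies 2048 3 cv1m145),
  (256, copies 2048 3 cv1m146),
  (128, copies 2048 3 cv1m147),
  (64, copies 2048 3 cv1m148),
  (32, copies 2048 3 cv1m149),
  (16, copies 2048 3 cv1m150),
  (8, copies 2048 3 cv1m151),
  (4, copies 2048 3 cv1m152),
  (2, copies 2048 3 cv1m153),
  (1, copies 2048 3 cv1m154),
  (2, copies 2048 3 cv1m155),
  (4, copies 2048 3 cv1m156),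
  (8, copies 2048 3 cv1m157),
  (16, copies 2048 3 cv1m158),
  (32, copies 2048 3 cv1m159),
  (64, copies 2048 3 cv1m160),
  (128, copies 2048 3 cv1m161),
  (256, copies 2048 3 cv1m162),
  (512, copies 2048 3 cv1m163),
  (1024, copies 2048 3 cv1m164),
  (2048, cv1m167),
  (2048, cv1m166),
  (2048, cv1m165)]
noncomputable def cv1s50 : List (ℕ × ℕ) := [(1024, copies 2048 3 cv1m168),
  (512, copies 2048 3 cv1m169),
  (256, copies 2048 3 cv1m170),
  (128, copies 2048 3 cv1m171),
  (64, copies 2048 3 cv1m172),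
  (32, copies 2048 3 cv1m173),
  (16, copies 2048 3 cv1m174),
  (8, copies 2048 3 cv1m175),
  (4, copies 2048 3 cv1m176),
  (2, copies 2048 3 cv1m177),
  (1, copies 2048 3 cv1m178),
  (2, copies 2048 3 cv1m179),
  (4, copies 2048 3 cv1m180),
  (8, copies 2048 3 cv1m181),
  (16, copies 2048 3 cv1m182),
  (32, copies 2048 3 cv1m183),
  (64, copies 2048 3 cv1m184),
  (128, copies 2048 3 cv1m185),
  (256, copies 2048 3 cv1m186),
  (512, copies 2048 3 cv1m187),
  (1024, copies 2048 3 cv1m188),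
  (2048, cv1m191),
  (2048, cv1m190),
  (2048, cv1m189)]
noncomputable def cv1s51 : List (ℕ × ℕ) := [(1024, copies 2048 3 cv1m192),
  (512, copies 2048 3 cv1m193),
  (256, copies 2048 3 cv1m194),
  (128, copies 2048 3 cv1m195),
  (64, copies 2048 3 cv1m196),
  (32, copies 2048 3 cv1m197),
  (16, copies 2048 3 cv1m198),
  (8, copies 2048 3 cv1m199),
  (4, copies 2048 3 cv1m200),
  (2, copies 2048 3 cv1m201),
  (1, copies 2048 3 cv1m202),
  (2, copies 2048 3 cv1m203),
  (4, copies 2048 3 cv1m204),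
  (8, copies 2048 3 cv1m205),
  (16, copies 2048 3 cv1m206),
  (32, copies 2048 3 cv1m207),
  (64, copies 2048 3 cv1m208),
  (128, copies 2048 3 cv1m209),
  (256, copies 2048 3 cv1m210),
  (512, copies 2048 3 cv1m211),
  (1024, copies 2048 3 cv1m212),
  (2048, cv1m215),
  (2048, cv1m214),
  (2048, cv1m213)]
noncomputable def cv1 : Mono := ⟨6144, 13, 3, 0, [cv1s0,[],[],[],[],[],[],[],[],[],[],[],[],[],[],[],[],[],[],[],[],[],[],[],[],[],[],[],[],[],[],[],[],[],[],[],[],[],[],[],[],[],[],cv1s43,cv1s44,cv1s45,cv1s46,cv1s47,cv1s48,cv1s49,cv1s50,cv1s51], [1,2,0,0,0,1,1,0,1,0,2,2,0,0,1,2,2,0,0,0,0,2,0,0,0,0,2,0,0,2,0,0,0,0,2,1,1,2,1,2,0,0,0,0,0,0,0,2,2,2,2,1,2,0,2,2,2,1,1,2,0]⟩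

end Cfsg.Agent.Mult.Suz
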